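import Groth.Agent.HomCohLib.Formal
import Groth.Agent.HomCohLib.Coh
import Groth.Agent.FlatLib.QStalk
import Groth.Agent.QCohLib.Coherent

/-!
# The stalk of the sheaf of homomorphisms out of a coherent module
-/

set_option autoImplicit false
set_option linter.style.haveILetI false
set_option linter.unusedSectionVars false
set_option backward.isDefEq.respectTransparency false
set_option backward.isDefEq.respectTransparency.types false
set_option maxHeartbeats 1000000

noncomputable section

universe u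

open CategoryTheory CategoryTheory.Limits AlgebraicGeometry TopologicalSpace Opposite
open ProjFormLib (ger res ger_res ger_smul ger_add ger_map exists_ger section_ext)
open CohCmpLib (homMod hVal happ ger_happ hVal_res hVal_smul hVal_add homMod_ext stk ger_zero ger_sum homSec
  evS evMod evS_evMod)

namespace Groth.Agent.ExtStalkLib

variable {X : Scheme.{u}}

/-- A homomorphism on an affine open is determined near a point by the values on generators. -/
theorem ext_gen (F N : X.Modules) [Coh.IsQCoh F] {U : X.Opens} (hU : IsAffineOpen U) {n : ℕ}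
    {v : Fin n → Γ(F, U)} (hv : Submodule.span Γ(X, U) (Set.range v) = ⊤) {y : X} (hy : y ∈ U)
    (L L' : stk F y →ₗ[X.presheaf.stalk y] stk N y) (h : ∀ i, L (ger F y hy (v i)) = L' (ger F y hy (v i))) :
    L = L' := by
  refine LinearMap.ext fun a => ?_
  obtain ⟨g, m, hg, hgm⟩ := HomCohLib.exists_frac (M := F) hU y hy a
  have hm : ∀ m : Γ(F, U), L (ger F y hy m) = L' (ger F y hy m) := fun m => by
    obtain ⟨c, rfl⟩ := (Submodule.mem_span_range_iff_exists_fun Γ(X, U)).1 (hv.ge (Submodule.mem_top (x := m)))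
    rw [ger_sum, map_sum, map_sum]
    refine Finset.sum_congr rfl fun i _ => ?_
    rw [ger_smul, map_smul, map_smul, h]
  refine hg.smul_left_cancel.1 ?_
  rw [← map_smul, ← map_smul, hgm, hm]

theorem evS_natural (F : X.Modules) {N N' : X.Modules} (φ : N ⟶ N') (x : X) (t : stk (homMod F N) x)
    (a : stk F x) :
    evS (evMod F N') x (((DerSch.stalkFunctor X x).map (HomCohLib.mapR F φ)).hom t) a =
      ((DerSch.stalkFunctor X x).map φ).hom (evS (evMod F N) x t a) := by
  obtain ⟨V, hxV, h, rfl⟩ := exists_ger _ x t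
  obtain ⟨V', hxV', m, rfl⟩ := exists_ger _ x a
  have hm : x ∈ V ⊓ V' := ⟨hxV, hxV'⟩
  rw [← ger_res (homMod F N) (inf_le_left : V ⊓ V' ≤ V) x hm h,
    ← ger_res F (inf_le_right : V ⊓ V' ≤ V') x hm m, ger_map, evS_evMod, evS_evMod, ← ger_happ,
    ← ger_happ, ger_map, HomCohLib.happ_mapR]

/-- Restriction of functions. -/
abbrev res' {U V : X.Opens} (h : V ≤ U) (r : Γ(X, U)) : Γ(X, V) := X.presheaf.map (homOfLE h).op r

theorem germ_res' {U V : X.Opens} (h : V ≤ U) {y : X} (hy : y ∈ V) (r : Γ(X, U)) :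
    X.presheaf.germ V y hy (res' h r) = X.presheaf.germ U y (h hy) r :=
  TopCat.Presheaf.germ_res_apply X.presheaf (homOfLE h) y hy r

variable [IsLocallyNoetherian X] {F : X.Modules}

theorem evS_injective (hF : Coh.IsCoh F) (N : X.Modules) (x : X) :
    Function.Injective (evS (evMod F N) x) := by
  classical
  haveI := hF.1
  refine (injective_iff_map_eq_zero _).2 fun t ht => ?_
  obtain ⟨V, hxV, h, rfl⟩ := exists_ger (homMod F N) x t
  rw [evS_evMod] at ht
  obtain ⟨U, hU, hxU, hUV⟩ := Opens.isBasis_iff_nbhd.1 X.isBasis_affineOpens hxV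
  haveI : IsNoetherianRing Γ(X, U) := IsLocallyNoetherian.component_noetherian ⟨U, hU⟩
  haveI : Module.Finite Γ(X, U) Γ(F, U) := QCohLib.finite_of_isFT hF.2 hU
  obtain ⟨n, v, hv⟩ := Module.Finite.exists_fin (R := Γ(X, U)) (M := Γ(F, U))
  have hz : ∀ i, ∃ (W : X.Opens) (hW : W ≤ U), x ∈ W ∧
      res N hW (happ (res (homMod F N) hUV h) (v i)) = 0 := fun i => by
    have h0 : ger N x hxU (happ (res (homMod F N) hUV h) (v i)) = 0 := by
      rw [ger_happ, hVal_res, ht]; rfl
    obtain ⟨W, hxW, i₁, i₂, e⟩ := N.presheaf.germ_eq x hxU hxU _ 0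
      (h0.trans (map_zero (N.presheaf.germ U x hxU).hom).symm)
    exact ⟨W, i₁.le, hxW, e.trans (map_zero _)⟩
  choose W hWU hxW hW using hz
  let D : X.Opens := U ⊓ Finset.univ.inf W
  have hxD : x ∈ D := ⟨hxU, by
    show x ∈ ((Finset.univ.inf _ : X.Opens) : Set X)
    rw [Opens.coe_finset_inf, Finset.inf_set_eq_iInter]
    exact Set.mem_iInter₂.2 fun i _ => hxW i⟩
  have hres : res (homMod F N) ((inf_le_left : D ≤ U).trans hUV) h = 0 := by
    refine homMod_ext fun y hy => ext_gen F N hU hv hy.1 _ _ fun i => ?_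
    have hyW : y ∈ W i := (Finset.inf_le (Finset.mem_univ i) : Finset.univ.inf W ≤ W i) hy.2
    have h1 := congrArg (ger N y hyW) (hW i)
    rw [ger_res, ger_happ, hVal_res] at h1
    rw [hVal_res, h1]
    exact ger_zero N y hyW
  rw [← ger_res (homMod F N) ((inf_le_left : D ≤ U).trans hUV) x hxD h, hres]
  exact ger_zero _ x hxD

theorem evS_surjective (hF : Coh.IsCoh F) (N : X.Modules) (x : X) :
    Function.Surjective (evS (evMod F N) x) := by
  classical
  haveI := hF.1
  intro L
  obtain ⟨U, hU, hxU, -⟩ := Opens.isBasis_iff_nbhd.1 X.isBasis_affineOpens (Opens.mem_top x)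
  haveI : IsNoetherianRing Γ(X, U) := IsLocallyNoetherian.component_noetherian ⟨U, hU⟩
  haveI : Module.Finite Γ(X, U) Γ(F, U) := QCohLib.finite_of_isFT hF.2 hU
  haveI := Module.finitePresentation_of_finite Γ(X, U) Γ(F, U)
  obtain ⟨n, v, hv⟩ := Module.Finite.exists_fin (R := Γ(X, U)) (M := Γ(F, U))
  choose W₀ hxW₀ t ht using fun i => exists_ger N x (L (ger F x hxU (v i)))
  let p : (Fin n → Γ(X, U)) →ₗ[Γ(X, U)] Γ(F, U) := Fintype.linearCombination Γ(X, U) v
  have hp : Function.Surjective p := by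
    rw [← LinearMap.range_eq_top, Fintype.range_linearCombination]
    exact hv
  obtain ⟨r, hr⟩ := Module.FinitePresentation.fg_ker p hp
  let D : X.Opens := U ⊓ Finset.univ.inf W₀
  have hxD : x ∈ D := ⟨hxU, by
    show x ∈ ((Finset.univ.inf _ : X.Opens) : Set X)
    rw [Opens.coe_finset_inf, Finset.inf_set_eq_iInter]
    exact Set.mem_iInter₂.2 fun i _ => hxW₀ i⟩
  have hDW : ∀ i, D ≤ W₀ i := fun i => inf_le_right.trans (Finset.inf_le (Finset.mem_univ i))
  have hrel : ∀ c : r, ∃ (W : X.Opens) (hW : W ≤ D), x ∈ W ∧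
      res N hW (∑ i, res' (inf_le_left : D ≤ U) (c.1 i) • res N (hDW i) (t i)) = 0 := fun c => by
    have hc : p c.1 = 0 := hr.le (Submodule.subset_span c.2)
    have h0 : ger N x hxD (∑ i, res' (inf_le_left : D ≤ U) (c.1 i) • res N (hDW i) (t i)) = 0 := by
      rw [ger_sum]
      calc ∑ i, ger N x hxD (res' (inf_le_left : D ≤ U) (c.1 i) • res N (hDW i) (t i))
          = ∑ i, L (ger F x hxU (c.1 i • v i)) := Finset.sum_congr rfl fun i _ => by
            rw [ger_smul, germ_res', ger_res, ht, ger_smul, map_smul]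
        _ = L (ger F x hxU (p c.1)) := by rw [Fintype.linearCombination_apply, ger_sum, map_sum]
        _ = 0 := by rw [hc]; exact (congrArg L (ger_zero F x hxU)).trans (map_zero L)
    obtain ⟨W, hxW, i₁, i₂, e⟩ := N.presheaf.germ_eq x hxD hxD _ 0
      (h0.trans (map_zero (N.presheaf.germ D x hxD).hom).symm)
    exact ⟨W, i₁.le, hxW, e.trans (map_zero _)⟩
  choose W hWD hxW hW using hrel
  let V : X.Opens := D ⊓ (Finset.univ.inf W)
  have hxV : x ∈ V := ⟨hxD, by
    show x ∈ ((Finset.univ.inf _ : X.Opens) : Set X)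
    rw [Opens.coe_finset_inf, Finset.inf_set_eq_iInter]
    exact Set.mem_iInter₂.2 fun i _ => hxW i⟩
  have hex : ∀ y : V, ∃ Ly : stk F y.1 →ₗ[X.presheaf.stalk y.1] stk N y.1,
      ∀ i, Ly (ger F y.1 y.2.1.1 (v i)) = ger N y.1 (hDW i y.2.1) (t i) := by
    rintro ⟨y, hy⟩
    have hyU : y ∈ U := hy.1.1
    letI := Module.compHom (stk F y) (X.presheaf.germ U y hyU).hom
    letI := Module.compHom (stk N y) (X.presheaf.germ U y hyU).hom
    letI : Algebra Γ(X, U) (X.presheaf.stalk y) := (X.presheaf.germ U y hyU).hom.toAlgebra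
    haveI : IsScalarTower Γ(X, U) (X.presheaf.stalk y) (stk F y) :=
      IsScalarTower.of_algebraMap_smul fun _ _ => rfl
    haveI : IsScalarTower Γ(X, U) (X.presheaf.stalk y) (stk N y) :=
      IsScalarTower.of_algebraMap_smul fun _ _ => rfl
    let S := (hU.primeIdealOf ⟨y, hyU⟩).asIdeal.primeCompl
    haveI : IsLocalization S (X.presheaf.stalk y) := hU.isLocalization_stalk ⟨y, hyU⟩
    let gl : Γ(F, U) →ₗ[Γ(X, U)] stk F y := FlatLib.germLin F hyU
    haveI : IsLocalizedModule S gl := FlatLib.isLocalizedModule_germLin F hU hyU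
    let q : (Fin n → Γ(X, U)) →ₗ[Γ(X, U)] stk N y :=
      Fintype.linearCombination Γ(X, U) fun i => ger N y (hDW i hy.1) (t i)
    have hq : LinearMap.ker p ≤ LinearMap.ker q := by
      rw [← hr, Submodule.span_le]
      intro c hc
      have hyW : y ∈ W ⟨c, hc⟩ :=
        (Finset.inf_le (Finset.mem_univ _) : Finset.univ.inf W ≤ W ⟨c, hc⟩) hy.2
      have h1 := congrArg (ger N y hyW) (hW ⟨c, hc⟩)
      rw [ger_res, ger_sum] at h1
      rw [SetLike.mem_coe, LinearMap.mem_ker, Fintype.linearCombination_apply]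
      refine Eq.trans (Finset.sum_congr rfl fun i _ => ?_) (h1.trans (ger_zero N y hyW))
      rw [ger_smul, germ_res', ger_res]
      rfl
    let f : Γ(F, U) →ₗ[Γ(X, U)] stk N y :=
      (Submodule.liftQ _ q hq).comp (LinearMap.quotKerEquivOfSurjective p hp).symm.toLinearMap
    have hf : ∀ i, f (v i) = ger N y (hDW i hy.1) (t i) := fun i => by
      have e1 : v i = p (Pi.single i 1) := by
        rw [Fintype.linearCombination_apply_single, one_smul]
      show Submodule.liftQ _ q hq ((LinearMap.quotKerEquivOfSurjective p hp).symm (v i)) = _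
      rw [e1, LinearMap.quotKerEquivOfSurjective_symm_apply, Submodule.liftQ_apply,
        Fintype.linearCombination_apply_single, one_smul]
    have hunit : ∀ s : S, IsUnit (algebraMap Γ(X, U) (Module.End Γ(X, U) (stk N y)) s) := fun s => by
      obtain ⟨w, hw⟩ := IsLocalization.map_units (X.presheaf.stalk y) s
      refine (Module.End.isUnit_iff _).2 ⟨fun a b hab => ?_, fun b => ⟨(↑w⁻¹ : X.presheaf.stalk y) • b, ?_⟩⟩
      · have e : (w : X.presheaf.stalk y) • a = (w : X.presheaf.stalk y) • b := by rw [hw]; exact hab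
        exact w.isUnit.smul_left_cancel.1 e
      · show algebraMap Γ(X, U) (X.presheaf.stalk y) s • ((↑w⁻¹ : X.presheaf.stalk y) • b) = b
        rw [← hw, smul_smul, Units.mul_inv, one_smul]
    refine ⟨LinearMap.extendScalarsOfIsLocalization S (X.presheaf.stalk y) (IsLocalizedModule.lift S gl f hunit),
      fun i => ?_⟩
    exact (IsLocalizedModule.lift_apply S gl f hunit (v i)).trans (hf i)
  choose Ls hLs using hex
  have hmem : Ls ∈ homSec F N V := by
    intro T hT m
    refine CohCmpLib.exists_section_of_germs N (fun y : T => Ls ⟨y.1, hT y.2⟩ (ger F y.1 y.2 m)) fun y => ?_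
    obtain ⟨g, hgT, hyg⟩ := QCohLib.exists_basicOpen_nhd hU y.2 (hT y.2).1.1
    obtain ⟨k, m₀, hm⟩ := (QCohLib.localizingAt_of_isQCoh hU F g).exists_extend (res F hgT m)
    obtain ⟨w, hw⟩ := (HomCohLib.isUnit_res_basic g).pow k
    obtain ⟨c, hc⟩ := hp m₀
    refine ⟨X.basicOpen g, hgT, hyg, (↑w⁻¹ : Γ(X, X.basicOpen g)) •
      ∑ i, res' (X.basicOpen_le g) (c i) • res N ((hgT.trans hT).trans (inf_le_left.trans (hDW i))) (t i),
      fun z hz => ?_⟩
    have h1 := congrArg (ger F z hz) hm
    rw [show (F.presheaf.map (homOfLE (X.basicOpen_le g)).op m₀) = res F (X.basicOpen_le g) m₀ from rfl, ← hw,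
      ger_res, ger_smul, ger_res] at h1
    have h2 : ∑ i, ger N z hz (res' (X.basicOpen_le g) (c i) •
        res N ((hgT.trans hT).trans (inf_le_left.trans (hDW i))) (t i)) =
        Ls ⟨z, hT (hgT hz)⟩ (ger F z (X.basicOpen_le g hz) m₀) := by
      rw [← hc, Fintype.linearCombination_apply, ger_sum, map_sum]
      refine Finset.sum_congr rfl fun i _ => ?_
      rw [ger_smul, germ_res', ger_res, ger_smul, map_smul]
      exact congrArg (_ • ·) (hLs ⟨z, hT (hgT hz)⟩ i).symm
    rw [ger_smul, ger_sum, h2, h1, map_smul, ← mul_smul, ← map_mul, Units.inv_mul, map_one, one_smul]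
  refine ⟨ger (homMod F N) x hxV (show Γ(homMod F N, V) from ⟨Ls, hmem⟩), ?_⟩
  rw [evS_evMod]
  refine ext_gen F N hU hv hxU _ _ fun i => ?_
  show Ls ⟨x, hxV⟩ (ger F x hxU (v i)) = _
  rw [← ht]
  exact hLs ⟨x, hxV⟩ i

end Groth.Agent.ExtStalkLib

end
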