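import Groth.Agent.LocalGenLib.Space
import Groth.Agent.ProjFormLib.Frame
import Groth.Agent.InjModLib.Stalk
import Mathlib.Algebra.Category.ModuleCat.ChangeOfRings

/-!
# Stalks at the points of the site of opens of a scheme
-/

set_option autoImplicit false
set_option linter.style.haveILetI false
set_option linter.unusedSectionVars false
set_option backward.isDefEq.respectTransparency false
set_option backward.isDefEq.respectTransparency.types false
set_option maxHeartbeats 1000000

noncomputable section

universe u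

open CategoryTheory CategoryTheory.Limits AlgebraicGeometry TopologicalSpace Opposite
open Groth.Agent.LocalGenLib (pt fib)

namespace Groth.Agent.ExtStalkLib

variable {X : Scheme.{u}} (x : X)

theorem exists_ringIso : ∃ e : ModSite.stalkRing (pt x) X.sheaf ≃+* X.presheaf.stalk x,
    ∀ (U : X.Opens) (h : x ∈ U) (r : Γ(X, U)),
      e (ModSite.germRing (O := X.sheaf) (pt x) U (fib h) r) = X.presheaf.germ U x h r := by
  let c : Cocone ((CategoryOfElements.π (pt x).fiber).op ⋙ X.sheaf.obj) :=
    { pt := X.presheaf.stalk x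
      ι := { app := fun i => X.presheaf.germ i.unop.1 x i.unop.2.down.down
             naturality := fun i j f =>
               (X.presheaf.germ_res (f.unop.1) x j.unop.2.down.down).trans (Category.comp_id _).symm } }
  let ψ : ModSite.stalkRing (pt x) X.sheaf ⟶ X.presheaf.stalk x := colimit.desc _ c
  have hψ : ∀ (U : X.Opens) (v : (pt x).fiber.obj U) (r : X.sheaf.obj.obj (op U)),
      ψ.hom (ModSite.germRing (O := X.sheaf) (pt x) U v r) = (X.presheaf.germ U x v.down.down).hom r := fun U v r =>
    congrArg (fun f => f.hom r) (colimit.ι_desc c (op ⟨U, v⟩))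
  have hb : Function.Bijective ψ.hom := by
    refine ⟨(injective_iff_map_eq_zero _).2 fun a ha => ?_, fun a => ?_⟩
    · obtain ⟨U, v, r, rfl⟩ := (pt x).toPresheafFiber_jointly_surjective (P := X.sheaf.obj) a
      have ha' : (X.presheaf.germ U x v.down.down).hom r = (X.presheaf.germ U x v.down.down).hom 0 :=
        (hψ U v r).symm.trans (ha.trans (map_zero _).symm)
      obtain ⟨W, hxW, i₁, i₂, hW⟩ := X.presheaf.germ_eq x v.down.down v.down.down r 0 ha'
      refine (((pt x).toPresheafFiber_w_apply i₁ (fib hxW) X.sheaf.obj r).trans ?_).symm.trans ?_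
      · exact congrArg (fun t => ((pt x).toPresheafFiber U t X.sheaf.obj).hom r) (Subsingleton.elim _ _)
      · exact (congrArg ((pt x).toPresheafFiber W (fib hxW) X.sheaf.obj).hom (hW.trans (map_zero _))).trans (map_zero _)
    · obtain ⟨U, hxU, r, rfl⟩ := X.presheaf.germ_exist a
      exact ⟨_, hψ U (fib hxU) r⟩
  exact ⟨RingEquiv.ofBijective ψ.hom hb, fun U h r => hψ U (fib h) r⟩

/-- The two local rings at a point. -/
def eR : ModSite.stalkRing (pt x) X.sheaf ≃+* X.presheaf.stalk x := (exists_ringIso x).choose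

theorem eR_germ (U : X.Opens) (h : x ∈ U) (r : Γ(X, U)) :
    eR x (ModSite.germRing (O := X.sheaf) (pt x) U (fib h) r) = X.presheaf.germ U x h r :=
  (exists_ringIso x).choose_spec U h r

/-- The stalk at a point of the site. -/
abbrev ptMod (M : X.Modules) : ModuleCat.{u} (ModSite.stalkRing (pt x) X.sheaf) :=
  ModSite.stalkMod (O := X.sheaf) (pt x) M

theorem exists_sigma (M : X.Modules) :
    ∃ e : ModSite.stalkAb (O := X.sheaf) (pt x) M ≃+ M.presheaf.stalk x,
      ∀ (U : X.Opens) (h : x ∈ U) (s : Γ(M, U)),
        e (ModSite.germ (O := X.sheaf) (pt x) M U (fib h) s) = M.presheaf.germ U x h s := by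
  let P := (ModSite.toAb (O := X.sheaf) M).obj
  let c : Cocone ((CategoryOfElements.π (pt x).fiber).op ⋙ P) :=
    { pt := M.presheaf.stalk x
      ι := { app := fun i => M.presheaf.germ i.unop.1 x i.unop.2.down.down
             naturality := fun i j f =>
               (M.presheaf.germ_res (f.unop.1) x j.unop.2.down.down).trans (Category.comp_id _).symm } }
  let ψ : ModSite.stalkAb (O := X.sheaf) (pt x) M ⟶ M.presheaf.stalk x := colimit.desc _ c
  have hψ : ∀ (U : X.Opens) (v : (pt x).fiber.obj U) (s : Γ(M, U)),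
      ψ.hom (ModSite.germ (O := X.sheaf) (pt x) M U v s) = (M.presheaf.germ U x v.down.down).hom s := fun U v s =>
    congrArg (fun f => f.hom s) (colimit.ι_desc c (op ⟨U, v⟩))
  have hb : Function.Bijective ψ.hom := by
    refine ⟨(injective_iff_map_eq_zero _).2 fun a ha => ?_, fun a => ?_⟩
    · obtain ⟨U, v, r, rfl⟩ := (pt x).toPresheafFiber_jointly_surjective (P := P) a
      have ha' : (M.presheaf.germ U x v.down.down).hom r = (M.presheaf.germ U x v.down.down).hom 0 :=
        (hψ U v r).symm.trans (ha.trans (map_zero _).symm)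
      obtain ⟨W, hxW, i₁, i₂, hW⟩ := M.presheaf.germ_eq x v.down.down v.down.down r 0 ha'
      refine (((pt x).toPresheafFiber_w_apply i₁ (fib hxW) P r).trans ?_).symm.trans ?_
      · exact congrArg (fun t => ((pt x).toPresheafFiber U t P).hom r) (Subsingleton.elim _ _)
      · exact (congrArg ((pt x).toPresheafFiber W (fib hxW) P).hom (hW.trans (map_zero _))).trans (map_zero _)
    · obtain ⟨U, hxU, r, rfl⟩ := M.presheaf.germ_exist a
      exact ⟨_, hψ U (fib hxU) r⟩
  exact ⟨AddEquiv.ofBijective ψ.hom hb, fun U h s => hψ U (fib h) s⟩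

/-- The two stalks at a point. -/
def sigma (M : X.Modules) : ptMod x M ≃+ (DerSch.stalkFunctor X x).obj M := (exists_sigma x M).choose

theorem sigma_germ (M : X.Modules) (U : X.Opens) (h : x ∈ U) (s : Γ(M, U)) :
    sigma x M (ModSite.germ (O := X.sheaf) (pt x) M U (fib h) s) = ProjFormLib.ger M x h s :=
  (exists_sigma x M).choose_spec U h s

theorem sigma_smul (M : X.Modules) (r : ModSite.stalkRing (pt x) X.sheaf) (m : ptMod x M) :
    sigma x M (r • m) = eR x r • sigma x M m := by
  obtain ⟨U, v, r, rfl⟩ := (pt x).toPresheafFiber_jointly_surjective (P := X.sheaf.obj) r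
  obtain ⟨V, w, s, rfl⟩ := (pt x).toPresheafFiber_jointly_surjective (P := (ModSite.toAb (O := X.sheaf) M).obj) m
  have hx : x ∈ (U : X.Opens) ⊓ V := ⟨v.down.down, w.down.down⟩
  let i : (U : X.Opens) ⊓ V ⟶ U := homOfLE inf_le_left
  let j : (U : X.Opens) ⊓ V ⟶ V := homOfLE inf_le_right
  rw [← (pt x).toPresheafFiber_w_apply i (fib hx) X.sheaf.obj r |>.trans
      (congrArg (fun t => ((pt x).toPresheafFiber U t X.sheaf.obj).hom r) (Subsingleton.elim _ v)),
    ← (pt x).toPresheafFiber_w_apply j (fib hx) (ModSite.toAb (O := X.sheaf) M).obj s |>.trans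
      (congrArg (fun t => ((pt x).toPresheafFiber V t (ModSite.toAb (O := X.sheaf) M).obj).hom s) (Subsingleton.elim _ w))]
  let r' : Γ(X, U ⊓ V) := X.sheaf.obj.map i.op r
  let s' : Γ(M, U ⊓ V) := (ModSite.toAb (O := X.sheaf) M).obj.map j.op s
  show sigma x M (ModSite.germRing (O := X.sheaf) (pt x) _ (fib hx) r' • ModSite.germ (O := X.sheaf) (pt x) M _ (fib hx) s') =
    eR x (ModSite.germRing (O := X.sheaf) (pt x) _ (fib hx) r') • sigma x M (ModSite.germ (O := X.sheaf) (pt x) M _ (fib hx) s')
  rw [← ModSite.germ_smul (O := X.sheaf) (pt x) M (U ⊓ V) (fib hx) r' s', eR_germ, sigma_germ, sigma_germ]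
  exact ProjFormLib.ger_smul M x hx r' s'

/-- The stalk functor at a point of the site. -/
def stFun : X.Modules ⥤ ModuleCat.{u} (ModSite.stalkRing (pt x) X.sheaf) :=
  DerSch.stalkFunctor X x ⋙ ModuleCat.restrictScalars (eR x).toRingHom

/-- The comparison with the stalk at the point of the site. -/
def sigmaLin (M : X.Modules) : ptMod x M ≃ₗ[ModSite.stalkRing (pt x) X.sheaf] (stFun x).obj M where
  __ := sigma x M
  map_smul' r m := sigma_smul x M r m

theorem injective_stFun [IsLocallyNoetherian X] (I : X.Modules) [Injective I] : Injective ((stFun x).obj I) := by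
  haveI := InjModLib.stalk_injective_of_injective I x
  haveI : Injective ((DerSch.stalkFunctor X x).obj I) := Module.injective_object_of_injective_module _ _
  exact inferInstanceAs (Injective ((ModuleCat.restrictScalarsEquivalenceOfRingEquiv (eR x)).functor.obj
    ((DerSch.stalkFunctor X x).obj I)))

end Groth.Agent.ExtStalkLib

end
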