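import Groth.Agent.ExtStalkLib.HomStalk
import Groth.Agent.ExtStalkLib.Point
import Groth.Agent.ExtShLib.Hcx
import Groth.Agent.ExtLinLib.Basic
import Groth.Agent.KFlatLib.Stalk
import Mathlib.CategoryTheory.Abelian.Injective.Ext
import Mathlib.Algebra.Category.ModuleCat.EnoughInjectives
import Mathlib.Algebra.Category.ModuleCat.Ext.HasExt
import Mathlib.Algebra.Homology.SingleHomology

/-!
# Stalks of Ext sheaves out of coherent modules
-/

set_option autoImplicit false
set_option linter.style.haveILetI false
set_option linter.unusedSectionVars false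
set_option backward.isDefEq.respectTransparency false
set_option backward.isDefEq.respectTransparency.types false
set_option maxHeartbeats 1000000

noncomputable section

universe u

open CategoryTheory CategoryTheory.Limits AlgebraicGeometry TopologicalSpace Opposite
open CohCmpLib (homMod stk evS evMod)
open Groth.Agent.LocalGenLib (pt)

namespace Groth.Agent.ExtStalkLib

variable {X : Scheme.{u}} (x : X)

instance additive_stFun : (stFun x).Additive :=
  inferInstanceAs (DerSch.stalkFunctor X x ⋙ ModuleCat.restrictScalars (eR x).toRingHom).Additive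

instance preservesHomology_stFun : (stFun x).PreservesHomology := by
  haveI : PreservesFiniteLimits (DerSch.stalkFunctor X x) := inferInstance
  haveI : PreservesFiniteColimits (DerSch.stalkFunctor X x) := inferInstance
  haveI : (ModuleCat.restrictScalars.{u} (eR x).toRingHom).IsEquivalence :=
    (ModuleCat.restrictScalarsEquivalenceOfRingEquiv (eR x)).isEquivalence_functor
  haveI : PreservesFiniteLimits (stFun x) := comp_preservesFiniteLimits _ _
  haveI : PreservesFiniteColimits (stFun x) := comp_preservesFiniteColimits _ _
  exact Functor.preservesHomologyOfExact _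

/-- The stalk of an injective resolution. -/
def stRes [IsLocallyNoetherian X] {G : X.Modules} (I : InjectiveResolution G) :
    InjectiveResolution ((stFun x).obj G) where
  cocomplex := ((stFun x).mapHomologicalComplex _).obj I.cocomplex
  injective q := injective_stFun x (I.cocomplex.X q)
  ι := (HomologicalComplex.singleMapHomologicalComplex (stFun x) _ 0).inv.app G ≫
    ((stFun x).mapHomologicalComplex _).map I.ι
  quasiIso := inferInstance

variable [IsLocallyNoetherian X] {F : X.Modules}

/-- Stalks of homomorphisms are homomorphisms of stalks. -/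
def homEquiv (hF : Coh.IsCoh F) (N : X.Modules) :
    (stFun x).obj (homMod F N) ≃ₗ[ModSite.stalkRing (pt x) X.sheaf] ((stFun x).obj F ⟶ (stFun x).obj N) where
  toFun t := ModuleCat.ofHom (X := (stFun x).obj F) (Y := (stFun x).obj N)
    { toFun := fun a => evS (evMod F N) x t a
      map_add' := fun a b => map_add (evS (evMod F N) x t) a b
      map_smul' := fun r a => map_smul (evS (evMod F N) x t) (eR x r) (show stk F x from a) }
  map_add' t t' := ModuleCat.hom_ext (LinearMap.ext fun a =>
    LinearMap.congr_fun (map_add (evS (evMod F N) x) t t') a)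
  map_smul' r t := ModuleCat.hom_ext (LinearMap.ext fun a =>
    LinearMap.congr_fun (map_smul (evS (evMod F N) x) (eR x r) (show stk (homMod F N) x from t)) a)
  invFun φ := (evS_surjective hF N x
    { toFun := fun a => φ.hom a
      map_add' := fun a b => map_add φ.hom a b
      map_smul' := fun r a => by
        obtain ⟨r, rfl⟩ := (eR x).surjective r
        exact map_smul φ.hom r (show (stFun x).obj F from a) }).choose
  left_inv t := evS_injective hF N x ((evS_surjective hF N x _).choose_spec.trans rfl)
  right_inv φ := ModuleCat.hom_ext (LinearMap.ext fun a => LinearMap.congr_fun (evS_surjective hF N x _).choose_spec a)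

/-- **Stalks of Ext sheaves are Ext modules of stalks.** -/
theorem nonempty_stalk_extSh (x : X) (hF : Coh.IsCoh F) (G : X.Modules)
    [ModSite.HasSheafHom (O := X.sheaf) F] [HasInjectiveResolutions (ModSite.Mod X.sheaf)] (i : ℕ) :
    Nonempty (ptMod x ((ModSite.extSh (O := X.sheaf) F i).obj G) ≃ₗ[ModSite.stalkRing (pt x) X.sheaf]
      Abelian.Ext (ptMod x F) (ptMod x G) i) := by
  haveI : HasInjectiveResolutions X.Modules := ‹HasInjectiveResolutions (ModSite.Mod X.sheaf)›
  let I := InjectiveResolution.of G
  obtain ⟨e⟩ := ExtShLib.nonempty_extSh_iso I F i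
  let C := ExtShLib.hcx F I
  let K := ((stFun x).mapHomologicalComplex _).obj C
  let R := stRes x I
  obtain ⟨t⟩ := ExtLinLib.nonempty_homology_iso_ext (X := (stFun x).obj F) R K (fun n => homEquiv x hF (I.cocomplex.X n))
    (fun n s => by
      refine ModuleCat.hom_ext (LinearMap.ext fun a => ?_)
      show evS (evMod F (I.cocomplex.X (n + 1))) x
          (((DerSch.stalkFunctor X x).map ((PnDualLib.homFun F).map (I.cocomplex.d n (n + 1)))).hom s) a =
        ((DerSch.stalkFunctor X x).map (I.cocomplex.d n (n + 1))).hom (evS (evMod F (I.cocomplex.X n)) x s a)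
      rw [PnDualLib.homFun_map]
      exact evS_natural F (I.cocomplex.d n (n + 1)) x s a) i
  let e₁ : (stFun x).obj ((ModSite.extSh (O := X.sheaf) F i).obj G) ≅
      ModuleCat.of _ (Abelian.Ext ((stFun x).obj F) ((stFun x).obj G) i) :=
    (stFun x).mapIso e ≪≫ ((C.sc i).mapHomologyIso (stFun x)).symm ≪≫ t
  let eF : ptMod x F ≅ (stFun x).obj F := (sigmaLin x F).toModuleIso
  let eG : ptMod x G ≅ (stFun x).obj G := (sigmaLin x G).toModuleIso
  exact ⟨(sigmaLin x _).trans (e₁.toLinearEquiv.trans
    { toFun := fun a => ((Abelian.Ext.mk₀ eF.hom).comp a (zero_add i)).comp (Abelian.Ext.mk₀ eG.inv) (add_zero i)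
      invFun := fun a => ((Abelian.Ext.mk₀ eF.inv).comp a (zero_add i)).comp (Abelian.Ext.mk₀ eG.hom) (add_zero i)
      map_add' := fun a b => by simp
      map_smul' := fun r a => by simp
      left_inv := fun a => by simp [← Abelian.Ext.comp_assoc_of_third_deg_zero]
      right_inv := fun a => by simp [← Abelian.Ext.comp_assoc_of_third_deg_zero] })⟩

end Groth.Agent.ExtStalkLib

end
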