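import Groth.Agent.ExtStalkLib.HomStalk
import Groth.Agent.HomCohLib.Adj
import Groth.Agent.DepthLib.RegAB
import Groth.Agent.CommAlgDim.Depth
import Groth.Agent.S6876
import Mathlib.RingTheory.Support

/-!
# Stalks of the sheaf of homomorphisms
-/

set_option autoImplicit false
set_option linter.style.haveILetI false
set_option backward.isDefEq.respectTransparency false
set_option backward.isDefEq.respectTransparency.types false

noncomputable section

universe u

open CategoryTheory CategoryTheory.Limits AlgebraicGeometry TopologicalSpace Opposite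
open CohCmpLib (homMod stk evS evMod)

namespace Groth.Agent.ExtStalkLib

variable {X : Scheme.{u}} [IsLocallyNoetherian X] {F : X.Modules}

/-- The stalk of the sheaf Hom is the module of homomorphisms of stalks. -/
def sheafHomStalkEquiv (hF : Coh.IsCoh F) [DCoh.HasSheafHom F] (G : X.Modules) (x : X) :
    stk ((DCoh.sheafHom F).obj G) x ≃ₗ[X.presheaf.stalk x] (stk F x →ₗ[X.presheaf.stalk x] stk G x) :=
  ((DerSch.stalkFunctor X x).mapIso (HomCohLib.sheafHomIso F G)).toLinearEquiv.trans
    (LinearEquiv.ofBijective (evS (evMod F G) x) ⟨evS_injective hF G x, evS_surjective hF G x⟩)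

theorem depth_sheafHom (hF : Coh.IsCoh F) [DCoh.HasSheafHom F] {G : X.Modules} (hG : Coh.IsCoh G) (x : X) :
    ((1 : ℕ∞) ≤ LocCoh.depth (X.presheaf.stalk x) (stk G x) →
      (1 : ℕ∞) ≤ LocCoh.depth (X.presheaf.stalk x) (stk ((DCoh.sheafHom F).obj G) x)) ∧
    ((2 : ℕ∞) ≤ LocCoh.depth (X.presheaf.stalk x) (stk G x) →
      (2 : ℕ∞) ≤ LocCoh.depth (X.presheaf.stalk x) (stk ((DCoh.sheafHom F).obj G) x)) := by
  haveI := hF.1
  haveI := hG.1
  haveI : Module.Finite (X.presheaf.stalk x) (stk F x) := DepthLib.finite_stalk F hF.2 x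
  haveI : Module.Finite (X.presheaf.stalk x) (stk G x) := DepthLib.finite_stalk G hG.2 x
  rw [CommAlgDim.depth_congr (sheafHomStalkEquiv hF G x)]
  exact Groth.Agent.S6876.result (X.presheaf.stalk x) (stk F x) (stk G x)

theorem supportDim_sheafHom_le (hF : Coh.IsCoh F) [DCoh.HasSheafHom F] (G : X.Modules) (x : X) :
    Module.supportDim (X.presheaf.stalk x) (stk ((DCoh.sheafHom F).obj G) x) ≤
      Module.supportDim (X.presheaf.stalk x) (stk G x) := by
  haveI := hF.1
  haveI : Module.Finite (X.presheaf.stalk x) (stk F x) := DepthLib.finite_stalk F hF.2 x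
  rw [Module.supportDim_eq_of_equiv (sheafHomStalkEquiv hF G x)]
  obtain ⟨n, f, hf⟩ := Module.Finite.exists_fin' (X.presheaf.stalk x) (stk F x)
  refine Module.supportDim_le_of_injective (LinearMap.llcomp _ _ _ _ |>.flip f) ?_ |>.trans ?_
  · exact fun a b h => LinearMap.ext fun m => by obtain ⟨v, rfl⟩ := hf m; exact LinearMap.congr_fun h v
  · rw [Module.supportDim_eq_of_equiv ((LinearEquiv.piRing (X.presheaf.stalk x) (stk G x) (Fin n) (X.presheaf.stalk x)).trans (LinearEquiv.refl _ _))]
    exact le_of_eq_of_le rfl (Order.krullDim_le_of_strictMono (fun p => ⟨p.1, by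
      obtain ⟨m, hm⟩ := (Module.mem_support_iff' (R := X.presheaf.stalk x)).1 p.2
      obtain ⟨i, hi⟩ : ∃ i, ∀ r ∉ p.1.asIdeal, r • m i ≠ 0 := by
        by_contra hc
        push_neg at hc
        choose r hr hr' using hc
        refine hm (∏ i, r i) (fun h => ?_) (funext fun i => ?_)
        · obtain ⟨i, -, hi⟩ := (Ideal.IsPrime.prod_mem_iff).1 h
          exact hr i hi
        · rw [Pi.smul_apply, ← Finset.mul_prod_erase _ _ (Finset.mem_univ i), mul_comm, mul_smul, hr', smul_zero]
          rfl
      exact (Module.mem_support_iff' (R := X.presheaf.stalk x)).2 ⟨m i, hi⟩⟩) fun _ _ h => h)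

end Groth.Agent.ExtStalkLib

end
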